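/-
Certificate data of a coset enumeration.
-/
import Cfsg.Agent.Lib.CosetEnum.ONJB.Data

set_option autoImplicit false
set_option maxRecDepth 1000000

namespace CfsgLib.CosetEnum.ONJB

open CfsgLib.CosetEnum

/-- Justifications of the facts from 0. -/
noncomputable def just0 : List ℕ := [(nat_lit 0xfff), (nat_lit 0xfff), (nat_lit 0xfff), (nat_lit 0xfff), (nat_lit 0xfff), (nat_lit 0xfff), (nat_lit 0xfff), (nat_lit 0xfff), (nat_lit 0xfff), (nat_lit 0xfff), (nat_lit 0xfff), (nat_lit 0x80000600004000020000000001000030000500007000090000a00a00100009001004)]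

theorem just0_ok : data.okChunk 0 just0 = true := by decide +kernel

theorem just0_len : just0.length = 12 := by decide +kernel

end CfsgLib.CosetEnum.ONJB
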