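/-
Certificate data of a coset enumeration.
-/
import Cfsg.Agent.Lib.CosetEnum.ONJB.Data

set_option autoImplicit false
set_option maxRecDepth 1000000

namespace CfsgLib.CosetEnum.ONJB

open CfsgLib.CosetEnum

/-- Completion of the rows from 0. -/
noncomputable def rows0 : List (List ℕ) := [[(nat_lit 0x1), (nat_lit 0x1001)], [(nat_lit 0x1), (nat_lit 0x2001)], [(nat_lit 0x3001), (nat_lit 0x1001)], [(nat_lit 0x4001), (nat_lit 0x2001)], [(nat_lit 0x3001), (nat_lit 0x5001)], [(nat_lit 0x4001), (nat_lit 0x6001)], [(nat_lit 0x7001), (nat_lit 0x5001)], [(nat_lit 0x8001), (nat_lit 0x6001)], [(nat_lit 0x7001), (nat_lit 0x9001)], [(nat_lit 0x8001), (nat_lit 0xa001)], [(nat_lit 0xb001), (nat_lit 0x9001)], [(nat_lit 0xb001), (nat_lit 0xa001)]]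

theorem rows0_ok : okRows data table 12 0 rows0 = true := by decide +kernel

theorem rows0_len : rows0.length = 12 := by decide +kernel

end CfsgLib.CosetEnum.ONJB
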